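import Mathlib
import Cfsg.Agent.Lib.PrimeFix.Symp

/-!
Nondegenerate invariant subspaces of an isometry of odd prime order of an alternating form.
-/

set_option autoImplicit false

namespace CfsgLib.SympDecomp

open Module Polynomial CfsgLib.PrimeFix

variable {F : Type*} [Field F] {V : Type*} [AddCommGroup V] [Module F V]

/-- The form is nondegenerate on the subspace. -/
def Nd (B : LinearMap.BilinForm F V) (W : Submodule F V) : Prop :=
  ∀ u ∈ W, (∀ w ∈ W, B u w = 0) → u = 0

/-- The fixed space. -/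
def fixSp (T : Module.End F V) : Submodule F V := LinearMap.ker (T - 1)

/-- The sum of the nontrivial isotypic parts. -/
def movSp (r : ℕ) (T : Module.End F V) : Submodule F V :=
  LinearMap.ker (∑ k ∈ Finset.range r, T ^ k)

theorem mem_fixSp {T : Module.End F V} {v : V} : v ∈ fixSp T ↔ T v = v := sub_eq_zero

variable {B : LinearMap.BilinForm F V}

theorem skew (hA : B.IsAlt) (a b : V) : B b a = -B a b := by
  have h := hA (a + b)
  simp only [map_add, LinearMap.add_apply, hA a, hA b, zero_add, add_zero] at h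
  linear_combination h

theorem eq_zero_comm (hA : B.IsAlt) {a b : V} (h : B a b = 0) : B b a = 0 := by
  rw [skew hA, h, neg_zero]

theorem inf_orth_eq_bot (hA : B.IsAlt) {U : Submodule F V} (hU : Nd B U) :
    U ⊓ U.orthogonalBilin B = ⊥ :=
  (Submodule.eq_bot_iff _).2 fun u hu => hU u hu.1 fun w hw => eq_zero_comm hA (hu.2 w hw)

theorem nd_sup (hA : B.IsAlt) {U U' : Submodule F V} (hU : Nd B U) (hU' : Nd B U')
    (h : ∀ u ∈ U, ∀ w ∈ U', B u w = 0) : Nd B (U ⊔ U') := by
  intro x hx hxo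
  obtain ⟨u, hu, u', hu', rfl⟩ := Submodule.mem_sup.1 hx
  have h1 : u = 0 := hU u hu fun w hw => by
    have := hxo w (Submodule.mem_sup_left hw)
    rwa [map_add, LinearMap.add_apply, eq_zero_comm hA (h w hw u' hu'), add_zero] at this
  have h2 : u' = 0 := hU' u' hu' fun w hw => by
    have := hxo w (Submodule.mem_sup_right hw)
    rwa [h1, zero_add] at this
  rw [h1, h2, add_zero]

theorem disjoint_of_orth (hA : B.IsAlt) {U U' : Submodule F V} (hU : Nd B U)
    (h : ∀ u ∈ U, ∀ w ∈ U', B u w = 0) : U ⊓ U' = ⊥ :=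
  le_bot_iff.1 ((inf_le_inf_left U (fun w hw u hu => h u hu w hw :
    U' ≤ U.orthogonalBilin B)).trans (inf_orth_eq_bot hA hU).le)

theorem finrank_sup_orth [FiniteDimensional F V] (hA : B.IsAlt) {U U' : Submodule F V} (hU : Nd B U)
    (h : ∀ u ∈ U, ∀ w ∈ U', B u w = 0) :
    finrank F ↥(U ⊔ U') = finrank F U + finrank F U' := by
  have := Submodule.finrank_sup_add_finrank_inf_eq U U'
  rwa [disjoint_of_orth hA hU h, finrank_bot, add_zero] at this

/-- The orthogonal complement of a nondegenerate subspace inside a nondegenerate subspace. -/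
theorem compl_spec [FiniteDimensional F V] (hA : B.IsAlt) {U W : Submodule F V} (hU : Nd B U)
    (hW : Nd B W) (hUW : U ≤ W) :
    Nd B (W ⊓ U.orthogonalBilin B) ∧
      finrank F U + finrank F ↥(W ⊓ U.orthogonalBilin B) = finrank F W := by
  set W' := W ⊓ U.orthogonalBilin B
  have ho : ∀ u ∈ U, ∀ w ∈ W', B u w = 0 := fun u hu w hw => hw.2 u hu
  have hsum : finrank F U + finrank F W' = finrank F W := by
    have h1 := finrank_sup_orth hA hU ho
    have h2 := Submodule.finrank_mono (sup_le hUW (inf_le_left : W' ≤ W))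
    have h3 := finrank_le_orth_add B W U
    simp only [W'] at h1 h2 h3 ⊢
    omega
  refine ⟨fun x hx hxo => hW x hx.1 fun w hw => ?_, hsum⟩
  have htop : U ⊔ W' = W := Submodule.eq_of_le_of_finrank_le (sup_le hUW inf_le_left)
    (by rw [finrank_sup_orth hA hU ho, hsum])
  obtain ⟨u, hu, w', hw', rfl⟩ := Submodule.mem_sup.1 (htop.symm ▸ hw : w ∈ U ⊔ W')
  rw [map_add, hxo w' hw', eq_zero_comm hA (hx.2 u hu), add_zero]

/-- Splitting off pieces of equal size. -/
theorem exists_iter [FiniteDimensional F V] [Fintype F] {r : ℕ} [Fact r.Prime] (hA : B.IsAlt)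
    {T : Module.End F V} (hB : ∀ u w, B (T u) (T w) = B u w) (hT : T ^ r = 1) {W₀ : Submodule F V}
    (h0 : Inv T W₀) (hnd : Nd B W₀) {c : ℕ}
    (hunit : ∀ W, W ≤ W₀ → Inv T W → Nd B W → W ≠ ⊥ →
      ∃ U, U ≤ W ∧ Inv T U ∧ Nd B U ∧ finrank F U = c) :
    ∀ y, y * c ≤ finrank F W₀ → ∃ Y, Y ≤ W₀ ∧ Inv T Y ∧ Nd B Y ∧ finrank F Y = y * c
  | 0, _ => ⟨⊥, bot_le, fun w hw => by simp [(Submodule.mem_bot F).1 hw],
      fun u hu _ => (Submodule.mem_bot F).1 hu, by simp⟩
  | y + 1, hy => by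
    rw [Nat.succ_mul] at hy
    obtain ⟨Y, hY, hYi, hYn, hYd⟩ := exists_iter hA hB hT h0 hnd hunit y (by omega)
    rcases Nat.eq_zero_or_pos c with rfl | hc
    · exact ⟨Y, hY, hYi, hYn, by rw [hYd]; simp⟩
    obtain ⟨hn', hd'⟩ := compl_spec hA hYn hnd hY
    obtain ⟨U, hU, hUi, hUn, hUd⟩ := hunit _ inf_le_left (inv_inf h0 (inv_orth hB hT hYi)) hn'
      fun h => by rw [h, finrank_bot] at hd'; omega
    have ho : ∀ u ∈ Y, ∀ w ∈ U, B u w = 0 := fun u hu w hw => (hU hw).2 u hu
    exact ⟨Y ⊔ U, sup_le hY (hU.trans inf_le_left), inv_sup hYi hUi, nd_sup hA hYn hUn ho,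
      by rw [finrank_sup_orth hA hYn ho, hYd, hUd, Nat.succ_mul]⟩

/-- Hyperbolic planes. -/
theorem exists_plane [FiniteDimensional F V] (hA : B.IsAlt) {W : Submodule F V} (hW : Nd B W)
    (hne : W ≠ ⊥) : ∃ U, U ≤ W ∧ Nd B U ∧ finrank F U = 2 := by
  obtain ⟨v, hv, hv0⟩ := Submodule.exists_mem_ne_zero_of_ne_bot hne
  obtain ⟨w, hw, hvw⟩ : ∃ w ∈ W, B v w ≠ 0 := by
    by_contra h
    push Not at h
    exact hv0 (hW v hv h)
  have hli : LinearIndependent F ![v, w] := by
    rw [LinearIndependent.pair_iff' hv0]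
    intro a ha
    rw [← ha, map_smul, hA v, smul_zero] at hvw
    exact hvw rfl
  refine ⟨Submodule.span F (Set.range ![v, w]), ?_, fun x hx hxo => ?_, ?_⟩
  · rw [Submodule.span_le]
    rintro _ ⟨i, rfl⟩
    fin_cases i
    · exact hv
    · exact hw
  · obtain ⟨c, rfl⟩ := (Submodule.mem_span_range_iff_exists_fun F).1 hx
    have h1 := hxo v (Submodule.subset_span ⟨0, rfl⟩)
    have h2 := hxo w (Submodule.subset_span ⟨1, rfl⟩)
    simp [hA v, hA w, skew hA v w] at h1 h2
    rcases h1 with h1 | h1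
    · rcases h2 with h2 | h2
      · simp [h1, h2]
      · exact absurd h2 hvw
    · exact absurd h1 hvw
  · rw [finrank_span_eq_card hli, Fintype.card_fin]

section prime

variable [Fintype F] [FiniteDimensional F V] {r : ℕ} [hr : Fact r.Prime] {T : Module.End F V}

omit [Fintype F] [FiniteDimensional F V] hr in
theorem inv_movSp : Inv T (movSp r T) := by
  have h : movSp r T = LinearMap.ker (aeval T (∑ k ∈ Finset.range r, (X : F[X]) ^ k)) := by simp [movSp]
  rw [h]; exact inv_ker_aeval _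

omit [Fintype F] [FiniteDimensional F V] hr in
theorem inv_fixSp : Inv T (fixSp T) := fun w hw => by
  rw [mem_fixSp] at hw ⊢
  rw [hw, hw]

omit [Fintype F] [FiniteDimensional F V] hr in
theorem inv_of_le_fixSp {W : Submodule F V} (h : W ≤ fixSp T) : Inv T W := fun w hw => by
  rw [mem_fixSp.1 (h hw)]; exact hw

omit [Fintype F] [FiniteDimensional F V] in
theorem fpf_movSp (hrF : (r : F) ≠ 0) : Fpf T (movSp r T) := fun v hv h => by
  have hk : ∀ k : ℕ, (T ^ k) v = v := fun k => by
    induction k with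
    | zero => rfl
    | succ k ih => rw [pow_succ, Module.End.mul_apply, h, ih]
  have h0 : (∑ k ∈ Finset.range r, T ^ k) v = 0 := hv
  rw [LinearMap.sum_apply, Finset.sum_congr rfl (fun k _ => hk k), Finset.sum_const, Finset.card_range,
    ← Nat.cast_smul_eq_nsmul F, smul_eq_zero] at h0
  exact h0.resolve_left hrF

omit [Fintype F] [FiniteDimensional F V] in
theorem fix_orth_mov (hrF : (r : F) ≠ 0) (hB : ∀ u w, B (T u) (T w) = B u w)
    {u w : V} (hu : u ∈ fixSp T) (hw : w ∈ movSp r T) : B u w = 0 := by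
  have hk : ∀ k : ℕ, B u ((T ^ k) w) = B u w := fun k => by
    induction k with
    | zero => rfl
    | succ k ih =>
      rw [pow_succ', Module.End.mul_apply]
      conv_lhs => rw [← mem_fixSp.1 hu]
      rw [hB, ih]
  have h0 : B u ((∑ k ∈ Finset.range r, T ^ k) w) = 0 := by
    rw [show (∑ k ∈ Finset.range r, T ^ k) w = 0 from hw, map_zero]
  rw [LinearMap.sum_apply, map_sum, Finset.sum_congr rfl (fun k _ => hk k), Finset.sum_const,
    Finset.card_range, ← Nat.cast_smul_eq_nsmul F, smul_eq_mul, mul_eq_zero] at h0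
  exact h0.resolve_left hrF

/-- An invariant subspace is the orthogonal sum of its fixed and moving parts. -/
theorem split_spec (hrF : (r : F) ≠ 0) (hA : B.IsAlt) (hB : ∀ u w, B (T u) (T w) = B u w)
    (hT : T ^ r = 1) {W : Submodule F V} (hW : Inv T W) :
    finrank F ↥(W ⊓ fixSp T) + finrank F ↥(W ⊓ movSp r T) = finrank F W ∧
      (Nd B W → Nd B (W ⊓ fixSp T) ∧ Nd B (W ⊓ movSp r T)) := by
  have hsum : (W ⊓ fixSp T) ⊔ (W ⊓ movSp r T) = W := le_antisymm (sup_le inf_le_left inf_le_left)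
    fun w hw => by
      obtain ⟨c, hc, hc1, d, hd, hd1, rfl⟩ := exists_split hrF hT hW hw
      exact Submodule.add_mem_sup ⟨hc, mem_fixSp.2 hc1⟩ ⟨hd, hd1⟩
  have hdis : (W ⊓ fixSp T) ⊓ (W ⊓ movSp r T) = ⊥ := (Submodule.eq_bot_iff _).2 fun v hv =>
    fpf_movSp hrF v hv.2.2 (mem_fixSp.1 hv.1.2)
  refine ⟨?_, fun hnd => ⟨fun u hu h => hnd u hu.1 fun w hw => ?_, fun u hu h => hnd u hu.1 fun w hw => ?_⟩⟩
  · have h := Submodule.finrank_sup_add_finrank_inf_eq (W ⊓ fixSp T) (W ⊓ movSp r T)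
    rw [hsum, hdis, finrank_bot, add_zero] at h
    exact h.symm
  · obtain ⟨a, ha, b, hb, rfl⟩ := Submodule.mem_sup.1 (hsum.symm ▸ hw :
      w ∈ (W ⊓ fixSp T) ⊔ (W ⊓ movSp r T))
    rw [map_add, h a ha, fix_orth_mov hrF hB hu.2 hb.2, add_zero]
  · obtain ⟨a, ha, b, hb, rfl⟩ := Submodule.mem_sup.1 (hsum.symm ▸ hw :
      w ∈ (W ⊓ fixSp T) ⊔ (W ⊓ movSp r T))
    rw [map_add, h b hb, eq_zero_comm hA (fix_orth_mov hrF hB ha.2 hu.2), add_zero]

/-- `c = i` for even `i` and `2 i` for odd `i`. -/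
noncomputable def unitDim (F : Type*) [Fintype F] (r : ℕ) : ℕ :=
  if Even (orderOf (Fintype.card F : ZMod r)) then orderOf (Fintype.card F : ZMod r)
  else 2 * orderOf (Fintype.card F : ZMod r)

omit [FiniteDimensional F V] in
theorem unitDim_pos (hrF : (r : F) ≠ 0) : 0 < unitDim F r := by
  have := ord_pos (r := r) hrF
  rw [unitDim]; split_ifs <;> omega

omit [Field F] [AddCommGroup V] [Module F V] [FiniteDimensional F V] hr in
theorem even_unitDim : Even (unitDim F r) := by
  rw [unitDim]; split_ifs with h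
  · exact h
  · exact even_two_mul _

/-- The dimension of a nondegenerate subspace without fixed vectors. -/
theorem unitDim_dvd (hA : B.IsAlt) (hT : T ^ r = 1) {W : Submodule F V} (hW : Inv T W)
    (hnd : Nd B W) (hf : Fpf T W) : unitDim F r ∣ finrank F W := by
  obtain ⟨k, hk⟩ := ord_dvd_finrank hT hW hf
  rw [unitDim]
  split_ifs with h
  · exact ⟨k, hk⟩
  · have he := (Symp.exists_isotropic_alt hA W hnd).1
    rw [hk] at he
    obtain ⟨l, rfl⟩ := even_iff_two_dvd.1 ((Nat.even_mul.1 he).resolve_left h)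
    exact ⟨l, by rw [hk]; ring⟩

/-- The basic block. -/
theorem exists_unit (hrF : (r : F) ≠ 0) (hr2 : r ≠ 2) (hA : B.IsAlt) (hB : ∀ u w, B (T u) (T w) = B u w)
    (hT : T ^ r = 1) {W : Submodule F V} (hW : Inv T W) (hnd : Nd B W) (hf : Fpf T W) (hne : W ≠ ⊥) :
    ∃ U, U ≤ W ∧ Inv T U ∧ Nd B U ∧ finrank F U = unitDim F r := by
  set i := orderOf (Fintype.card F : ZMod r) with hi
  have hi0 : 0 < i := ord_pos hrF
  obtain ⟨f, hfm, hirr, hdvd, hker⟩ := exists_factor_lt hrF hT hW hf (c := 0)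
    (by rw [mul_zero]; exact Nat.pos_of_ne_zero fun h0 => hne (Submodule.finrank_eq_zero.1 h0))
  set K := W ⊓ LinearMap.ker (aeval T f) with hK
  obtain ⟨v₀, hv₀, hv₀0⟩ := Submodule.exists_mem_ne_zero_of_ne_bot (p := K)
    (fun h => by rw [h, finrank_bot] at hker; omega)
  have hcd : ∀ v ∈ K, v ≠ 0 → finrank F (cyc T v) = i := fun v hv h0 =>
    finrank_cyc hrF hfm hirr hdvd hv.2 h0
  -- a cyclic subspace is nondegenerate or totally isotropic
  have hdich : ∀ v ∈ K, v ≠ 0 → Nd B (cyc T v) ∨ Isotropic B (cyc T v) := by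
    intro v hv h0
    set U := cyc T v
    have hRi : Inv T (U ⊓ U.orthogonalBilin B) := inv_inf (inv_cyc T v) (inv_orth hB hT (inv_cyc T v))
    obtain ⟨k, hk⟩ := ord_dvd_finrank hT hRi (hf.mono (inf_le_left.trans (cyc_le hW hv.1)))
    rcases Nat.eq_zero_or_pos k with rfl | hk0
    · left
      rw [mul_zero, Submodule.finrank_eq_zero] at hk
      exact fun u hu h => (Submodule.eq_bot_iff _).1 hk u ⟨hu, fun w hw => eq_zero_comm hA (h w hw)⟩
    · right
      have heq : U ⊓ U.orthogonalBilin B = U := Submodule.eq_of_le_of_finrank_le inf_le_left (by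
        rw [hk, hcd v hv h0]; exact Nat.le_mul_of_pos_right _ hk0)
      intro u hu w hw
      exact (heq.symm.le hw).2 u hu
  rcases Nat.even_or_odd i with hie | hio
  · -- the factor is self-reciprocal
    rw [unitDim, if_pos hie]
    by_contra hcon
    push Not at hcon
    have hiso : ∀ v ∈ K, Isotropic B (cyc T v) := fun v hv => by
      rcases eq_or_ne v 0 with rfl | h0
      · intro u hu w _
        obtain ⟨g, rfl⟩ := hu
        simp
      · refine (hdich v hv h0).resolve_left fun hn => ?_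
        exact hcon _ (cyc_le hW hv.1) (inv_cyc T v) hn (hcd v hv h0)
    obtain ⟨h, hh⟩ := hie
    obtain ⟨n, hp, hq⟩ := FiniteField.card F (ringChar F)
    haveI : Fact (ringChar F).Prime := ⟨hp⟩
    haveI : ExpChar F[X] (ringChar F) := ExpChar.prime hp
    have hN1 : T ^ (r - 1 + 1) = 1 := by rwa [Nat.sub_add_cancel hr.out.one_le]
    have hQ : (((ringChar F) ^ ((n : ℕ) * h) : ℕ) : ZMod r) = ((r - 1 : ℕ) : ZMod r) := by
      rw [Nat.cast_sub hr.out.one_le, ZMod.natCast_self, zero_sub, Nat.cast_one, pow_mul, ← hq, Nat.cast_pow]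
      have hsq : ((Fintype.card F : ZMod r) ^ h) * ((Fintype.card F : ZMod r) ^ h) = 1 := by
        rw [← pow_add, ← hh, hi, pow_orderOf_eq_one]
      rcases mul_self_eq_one_iff.1 hsq with h1 | h1
      · have := Nat.le_of_dvd (by omega) (orderOf_dvd_of_pow_eq_one h1)
        omega
      · exact h1
    have hTQ : T ^ ((ringChar F) ^ ((n : ℕ) * h)) = T ^ (r - 1) :=
      pow_eq_pow_of_modEq ((ZMod.natCast_eq_natCast_iff _ _ _).1 hQ) hT
    have hfN : ∀ w ∈ K, aeval (T ^ (r - 1)) f w = 0 := by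
      intro w hw
      have h1 := frob_aeval (F := F) (A := F[X]) (σ := RingHom.id F) (ringChar F) ((n : ℕ) * h)
        (fun c => by rw [RingHom.id_apply, pow_mul, ← hq, FiniteField.pow_card_pow]) X f
      rw [aeval_X_left_apply, Polynomial.map_id, ← Polynomial.comp_eq_aeval, eq_comm] at h1
      rw [← hTQ, aeval_pow_eq, h1, ← Nat.sub_add_cancel (Nat.one_le_pow _ _ hp.pos : 1 ≤ ringChar F ^ ((n : ℕ) * h)),
        pow_succ, map_mul, Module.End.mul_apply, show aeval T f w = 0 from hw.2, map_zero]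
    have hKi : Inv T K := inv_inf hW (inv_ker_aeval _)
    obtain ⟨M, hMW, hMi, hMd, hKM⟩ := exists_inv_compl hrF hT hKi hW inf_le_left
    let φ : M →ₗ[F] M := (aeval T f).restrict fun m hm => inv_aeval hMi f hm
    have hφ : Function.Surjective φ := by
      refine LinearMap.injective_iff_surjective.1 ((injective_iff_map_eq_zero _).2 fun m hm => ?_)
      have : (m : V) ∈ K := ⟨hMW m.2, by simpa [φ] using congrArg Subtype.val hm⟩
      exact Subtype.ext ((Submodule.disjoint_def.1 hKM) _ this m.2)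
    have hsum : K ⊔ M = W := Submodule.eq_of_le_of_finrank_le (sup_le inf_le_left hMW) (by
      have h' := Submodule.finrank_sup_add_finrank_inf_eq K M
      rw [hKM.eq_bot, finrank_bot] at h'
      omega)
    have hKnd : Nd B K := by
      intro u hu h
      refine hnd u hu.1 fun w hw => ?_
      obtain ⟨a, ha, b, hb, rfl⟩ := Submodule.mem_sup.1 (hsum.symm ▸ hw : w ∈ K ⊔ M)
      obtain ⟨b', hb'⟩ := hφ ⟨b, hb⟩
      have hb2 : aeval T f (b' : V) = b := by simpa [φ] using congrArg Subtype.val hb'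
      rw [map_add, h a ha, zero_add, ← hb2]
      refine eq_zero_comm hA ?_
      rw [aeval_adjoint hB hN1, Polynomial.map_id, hfN u hu, map_zero]
    have hpol : ∀ w ∈ K, T w = (T ^ (r - 1)) w := by
      intro w hw
      refine sub_eq_zero.1 (hKnd _ (K.sub_mem (hKi w hw) (by
        rw [← aeval_X_pow (R := F) T]; exact inv_aeval hKi _ hw)) fun u hu => eq_zero_comm hA ?_)
      have h1 := hiso (u + w) (K.add_mem hu hw) _ (self_mem_cyc T _) _ (inv_cyc T _ _ (self_mem_cyc T _))
      have h2 := hiso u hu _ (self_mem_cyc T _) _ (inv_cyc T _ _ (self_mem_cyc T _))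
      have h3 := hiso w hw _ (self_mem_cyc T _) _ (inv_cyc T _ _ (self_mem_cyc T _))
      simp only [map_add, LinearMap.add_apply, h2, h3, zero_add, add_zero] at h1
      have h4 : B ((T ^ (r - 1)) w) u = B w (T u) := by
        rw [← hB, ← Module.End.mul_apply, ← pow_succ', hN1, Module.End.one_apply]
      rw [map_sub, skew hA ((T ^ (r - 1)) w) u, h4]
      linear_combination h1
    have h1 := hpol v₀ hv₀
    have h2 : (T ^ 2) v₀ = v₀ := by
      rw [pow_succ, pow_one, Module.End.mul_apply]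
      conv_lhs => rw [h1]
      rw [← Module.End.mul_apply, ← pow_succ', hN1]; rfl
    obtain ⟨m, hm⟩ := hr.out.odd_of_ne_two hr2
    have hk : ∀ k : ℕ, ((T ^ 2) ^ k) v₀ = v₀ := fun k => by
      induction k with
      | zero => rfl
      | succ k ih => rw [pow_succ, Module.End.mul_apply, h2, ih]
    refine hv₀0 (hf v₀ hv₀.1 ?_)
    calc T v₀ = T (((T ^ 2) ^ m) v₀) := by rw [hk]
      _ = (T ^ r) v₀ := by rw [← Module.End.mul_apply, ← pow_mul, ← pow_succ', hm]
      _ = v₀ := by rw [hT]; rfl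
  · rw [unitDim, if_neg (Nat.not_even_iff_odd.2 hio)]
    set U := cyc T v₀
    have hUd : finrank F U = i := hcd v₀ hv₀ hv₀0
    have hUW : U ≤ W := cyc_le hW hv₀.1
    have hU : Isotropic B U := (hdich v₀ hv₀ hv₀0).resolve_left fun hn => by
      have := (Symp.exists_isotropic_alt hA U hn).1
      rw [hUd] at this
      exact Nat.not_even_iff_odd.2 hio this
    set W₁ := W ⊓ U.orthogonalBilin B
    have hW₁ : Inv T W₁ := inv_inf hW (inv_orth hB hT (inv_cyc T v₀))
    have hUW₁ : U ≤ W₁ := le_inf hUW fun w hw u hu => hU u hu w hw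
    obtain ⟨M, hMW, hMi, hMd, hdis⟩ := exists_inv_compl hrF hT hW₁ hW inf_le_left
    have hle : finrank F W ≤ finrank F W₁ + i := hUd ▸ finrank_le_orth_add B W U
    have hMi' : finrank F M = i := by
      obtain ⟨k, hk⟩ := ord_dvd_finrank hT hMi (hf.mono hMW)
      rw [← hi] at hk
      have hM0 : finrank F M ≠ 0 := fun h0 => by
        have heq : W₁ = W := Submodule.eq_of_le_of_finrank_le inf_le_left (by omega)
        refine hv₀0 (hnd v₀ hv₀.1 fun w hw => ?_)
        exact ((heq.symm ▸ hw : w ∈ W₁)).2 v₀ (self_mem_cyc T v₀)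
      rcases k with - | - | k
      · exact absurd hk (by rwa [mul_zero])
      · rwa [zero_add, mul_one] at hk
      · rw [hk] at hMd hM0 ⊢
        have : i * 2 ≤ i * (k + 1 + 1) := Nat.mul_le_mul_left i (by omega)
        omega
    refine ⟨U ⊔ M, sup_le hUW hMW, inv_sup (inv_cyc T v₀) hMi, fun x hx hxo => ?_, ?_⟩
    · obtain ⟨u, hu, m, hm, rfl⟩ := Submodule.mem_sup.1 hx
      have hm0 : m = 0 := Submodule.disjoint_def.1 hdis m ⟨hMW hm, fun u' hu' => ?_⟩ hm
      swap
      · have h1 := eq_zero_comm hA (hxo u' (Submodule.mem_sup_left hu'))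
        rwa [map_add, hU u' hu' u hu, zero_add] at h1
      subst hm0
      rw [add_zero] at hxo ⊢
      have hsum : W₁ ⊔ M = W := Submodule.eq_of_le_of_finrank_le (sup_le inf_le_left hMW) (by
        have h' := Submodule.finrank_sup_add_finrank_inf_eq W₁ M
        rw [hdis.eq_bot, finrank_bot] at h'
        omega)
      refine hnd u (hUW hu) fun w hw => ?_
      obtain ⟨a, ha, b, hb, rfl⟩ := Submodule.mem_sup.1 (hsum.symm ▸ hw : w ∈ W₁ ⊔ M)
      rw [map_add, ha.2 u hu, hxo b (Submodule.mem_sup_right hb), add_zero]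
    · have h' := Submodule.finrank_sup_add_finrank_inf_eq U M
      rw [le_bot_iff.1 ((inf_le_inf_right M hUW₁).trans hdis.eq_bot.le), finrank_bot, hUd, hMi'] at h'
      omega

end prime

end CfsgLib.SympDecomp
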