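import Mathlib
import Cfsg.Prelude.Def_GeometricClasses
import Cfsg.Prelude.Def_ClassicalGeometry
import Cfsg.Agent.Lib.SympDecomp.Basic
import Cfsg.Agent.Lib.PrimeFix.SympModel
import Cfsg.Agent.S5958

/-!
Orthogonal decompositions permuted by an isometry of odd prime order: constructions and obstructions.
-/

set_option autoImplicit false

namespace CfsgLib.SympDecomp

open Module Polynomial CfsgLib.PrimeFix

variable {F : Type*} [Field F] {V : Type*} [AddCommGroup V] [Module F V] [FiniteDimensional F V]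
  {B : LinearMap.BilinForm F V} {r : ℕ} [hr : Fact r.Prime] {T : Module.End F V}

/-- Invariant orthogonal decompositions, when the fixed space is large enough. -/
theorem exists_parts [Fintype F] (hrF : (r : F) ≠ 0) (hr2 : r ≠ 2) (hA : B.IsAlt)
    (hB : ∀ u w, B (T u) (T w) = B u w) (hT : T ^ r = 1) {a : ℕ} (ha : Even a) :
    ∀ (t : ℕ) (W : Submodule F V), Inv T W → Nd B W → finrank F W = a * t →
      t * (a % unitDim F r) ≤ finrank F ↥(W ⊓ fixSp T) →
      ∃ D : Fin t → Submodule F V, (∀ j, D j ≤ W ∧ Inv T (D j) ∧ Nd B (D j) ∧ finrank F (D j) = a) ∧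
        ∀ j j', j ≠ j' → ∀ u ∈ D j, ∀ w ∈ D j', B u w = 0
  | 0, _, _, _, _, _ => ⟨fun j => j.elim0, fun j => j.elim0, fun j => j.elim0⟩
  | t + 1, W, hWi, hW, hWd, hfix => by
    set c := unitDim F r with hc
    have hc0 : 0 < c := unitDim_pos hrF
    have hce : Even c := even_unitDim
    obtain ⟨hsum, hnds⟩ := split_spec hrF hA hB hT hWi
    obtain ⟨hCn, hEn⟩ := hnds hW
    have hEi : Inv T (W ⊓ movSp r T) := inv_inf hWi inv_movSp
    have hEf : Fpf T (W ⊓ movSp r T) := (fpf_movSp hrF).mono inf_le_right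
    obtain ⟨s, hs⟩ := unitDim_dvd hA hT hEi hEn hEf
    rw [← hc] at hs
    set e := finrank F ↥(W ⊓ fixSp T) with he
    set y := min (a / c) s with hy
    have hyc : y * c ≤ a := (Nat.mul_le_mul_right c (min_le_left _ _)).trans (Nat.div_mul_le_self a c)
    have hdm : c * (a / c) + a % c = a := Nat.div_add_mod a c
    have hat : a * (t + 1) = a * t + a := by ring
    have hx : a - y * c ≤ e ∧ t * (a % c) ≤ e - (a - y * c) := by
      rw [Nat.succ_mul] at hfix
      rcases le_total (a / c) s with hus | hus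
      · rw [hy, min_eq_left hus, mul_comm]
        constructor <;> omega
      · rw [hy, min_eq_right hus, mul_comm s c, ← hs]
        have : t * (a % c) ≤ a * t := by
          rw [mul_comm a]; exact Nat.mul_le_mul_left t (Nat.mod_le _ _)
        constructor <;> omega
    obtain ⟨hx, hx'⟩ := hx
    obtain ⟨x, hx2⟩ : ∃ x, a - y * c = x * 2 := by
      obtain ⟨a', rfl⟩ := ha
      obtain ⟨c', hc'⟩ := hce
      exact ⟨a' - y * c', by rw [hc', mul_add, Nat.sub_mul]; omega⟩
    rw [hx2] at hx hx'
    obtain ⟨X, hXle, hXi, hXn, hXd⟩ := exists_iter hA hB hT (inv_inf hWi inv_fixSp) hCn (c := 2)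
      (fun U hU _ hUn hne => by
        obtain ⟨P, hP, hPn, hPd⟩ := exists_plane hA hUn hne
        exact ⟨P, hP, inv_of_le_fixSp (hP.trans (hU.trans inf_le_right)), hPn, hPd⟩) x hx
    obtain ⟨Y, hYle, hYi, hYn, hYd⟩ := exists_iter hA hB hT hEi hEn (c := c)
      (fun U hU hUi hUn hne => exists_unit hrF hr2 hA hB hT hUi hUn (hEf.mono hU) hne) y (by
        rw [hs, mul_comm y]; exact Nat.mul_le_mul_left c (min_le_right _ _))
    have hXY : ∀ u ∈ X, ∀ w ∈ Y, B u w = 0 := fun u hu w hw =>
      fix_orth_mov hrF hB (hXle hu).2 (hYle hw).2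
    set P := X ⊔ Y with hP
    have hPn : Nd B P := nd_sup hA hXn hYn hXY
    have hPi : Inv T P := inv_sup hXi hYi
    have hPle : P ≤ W := sup_le (hXle.trans inf_le_left) (hYle.trans inf_le_left)
    have hPd : finrank F P = a := by
      rw [hP, finrank_sup_orth hA hXn hXY, hXd, hYd, ← hx2, Nat.sub_add_cancel hyc]
    obtain ⟨hRn, hRd⟩ := compl_spec hA hPn hW hPle
    set R := W ⊓ P.orthogonalBilin B with hR
    have hRfix : e ≤ finrank F ↥(R ⊓ fixSp T) + x * 2 := by
      have h1 := finrank_le_orth_add B (W ⊓ fixSp T) X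
      rw [hXd] at h1
      refine h1.trans (Nat.add_le_add_right (Submodule.finrank_mono ?_) _)
      rintro v ⟨hv, hvX⟩
      refine ⟨⟨hv.1, fun p hp => ?_⟩, hv.2⟩
      obtain ⟨p₁, hp₁, p₂, hp₂, rfl⟩ := Submodule.mem_sup.1 (show p ∈ X ⊔ Y from hp)
      show B (p₁ + p₂) v = 0
      rw [map_add, LinearMap.add_apply, hvX p₁ hp₁,
        eq_zero_comm hA (fix_orth_mov hrF hB hv.2 (hYle hp₂).2), add_zero]
    obtain ⟨D, hD, hDo⟩ := exists_parts hrF hr2 hA hB hT ha t R (inv_inf hWi (inv_orth hB hT hPi)) hRn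
      (by omega) (by rw [← hc]; omega)
    refine ⟨Fin.cons P D, fun j => ?_, fun j j' hne => ?_⟩
    · refine Fin.cases ?_ (fun k => ?_) j
      · exact ⟨hPle, hPi, hPn, hPd⟩
      · obtain ⟨h1, h2⟩ := hD k
        exact ⟨h1.trans inf_le_left, h2⟩
    · revert hne
      refine Fin.cases (fun hne => ?_) (fun k hne => ?_) j <;>
        revert hne <;> refine Fin.cases (fun hne => ?_) (fun k' hne => ?_) j'
      · exact absurd rfl hne
      · simp only [Fin.cons_zero, Fin.cons_succ]
        exact fun u hu w hw => ((hD k').1 hw).2 u hu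
      · simp only [Fin.cons_zero, Fin.cons_succ]
        exact fun u hu w hw => eq_zero_comm hA (((hD k).1 hu).2 w hw)
      · simp only [Fin.cons_succ]
        exact hDo k k' fun h => hne (by rw [h])

omit [FiniteDimensional F V] hr in
/-- Pairwise orthogonal nondegenerate subspaces are independent. -/
theorem indep_of_orth (hA : B.IsAlt) {ι : Type*} {D : ι → Submodule F V} (hnd : ∀ j, Nd B (D j))
    (ho : ∀ j j', j ≠ j' → ∀ u ∈ D j, ∀ w ∈ D j', B u w = 0) : iSupIndep D := fun j => by
  rw [disjoint_iff, ← le_bot_iff, ← inf_orth_eq_bot hA (hnd j)]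
  exact inf_le_inf_left _ (iSup₂_le fun j' hne => fun w hw u hu => ho j j' (Ne.symm hne) u hu w hw)

section moved

variable {t a : ℕ} {D : Fin t → Submodule F V} {σ : Equiv.Perm (Fin t)}

omit [FiniteDimensional F V] hr in
theorem map_pow_eq (hσ : ∀ j, (D j).map T = D (σ j)) (k : ℕ) (j : Fin t) :
    (D j).map (T ^ k) = D ((σ ^ k) j) := by
  induction k with
  | zero => rw [pow_zero, pow_zero, Module.End.one_eq_id, Submodule.map_id]; rfl
  | succ k ih =>
    rw [pow_succ', Module.End.mul_eq_comp, Submodule.map_comp, ih, hσ, pow_succ', Equiv.Perm.mul_apply]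

/-- A moved summand contributes to the fixed and to the moving part. -/
theorem moved_bounds [Fintype F] (hrF : (r : F) ≠ 0) (hA : B.IsAlt) (hB : ∀ u w, B (T u) (T w) = B u w)
    (hind : iSupIndep D) (ha : 0 < a) (hfin : ∀ j, finrank F (D j) = a)
    (hσ : ∀ j, (D j).map T = D (σ j)) (hT : T ^ r = 1) {j : Fin t} (hj : σ j ≠ j) :
    a ≤ finrank F (fixSp T) ∧ (r - 1) * a ≤ finrank F (movSp r T) := by
  have hne : ∀ k, D k ≠ ⊥ := fun k h0 => by
    have := hfin k
    rw [h0, finrank_bot] at this
    omega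
  have hσr : σ ^ r = 1 := Equiv.ext fun k => hind.injective hne (by
    rw [← map_pow_eq hσ, hT, Module.End.one_eq_id, Submodule.map_id]; rfl)
  set Q : Fin r → Submodule F V := fun i => D ((σ ^ (i : ℕ)) j) with hQ
  have hQind : iSupIndep Q := hind.comp (Cfsg.Agent.S5958.orbit_injective hσr hj)
  set S : Module.End F V := ∑ k ∈ Finset.range r, T ^ k with hS
  have hTS : T * S = S := by
    have h := mul_geom_sum T r
    rwa [hT, sub_self, sub_mul, one_mul, sub_eq_zero] at h
  have hST : ∀ k : ℕ, S * T ^ k = S := fun k => by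
    have hc : Commute S T := Commute.sum_left _ _ _ fun i _ => (Commute.refl T).pow_left i
    induction k with
    | zero => simp
    | succ k ih => rw [pow_succ, ← mul_assoc, ih, hc.eq, hTS]
  constructor
  · let φ : D j →ₗ[F] fixSp T := (S.domRestrict (D j)).codRestrict _ fun x => mem_fixSp.2 (by
      rw [LinearMap.domRestrict_apply, ← Module.End.mul_apply, hTS])
    have hφ : Function.Injective φ := (injective_iff_map_eq_zero _).2 fun x hx => by
      have h0 : ∑ i : Fin r, (T ^ (i : ℕ)) (x : V) = 0 := by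
        rw [Fin.sum_univ_eq_sum_range (fun i => (T ^ i) (x : V)), ← LinearMap.sum_apply]
        exact congrArg Subtype.val hx
      exact Subtype.ext (Cfsg.Agent.S5958.eq_zero_of_sum hQind (fun i : Fin r => by
        show (T ^ (i : ℕ)) (x : V) ∈ D ((σ ^ (i : ℕ)) j)
        rw [← map_pow_eq hσ]; exact ⟨_, x.2, rfl⟩) h0 ⟨0, hr.out.pos⟩)
    have := LinearMap.finrank_le_finrank_of_injective hφ
    rwa [hfin] at this
  · set P := iSup Q
    have hPd : r * a ≤ finrank F P := by
      have := Cfsg.Agent.S5958.sum_le_of_indep hQind (C := P) (l := a) fun i => by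
        rw [inf_eq_left.2 (le_iSup Q i)]; exact (hfin _).ge
      rwa [Fintype.card_fin] at this
    have hPi : Inv T P := by
      have hle : P.map T ≤ P := by
        rw [Submodule.map_iSup]
        refine iSup_le fun i => ?_
        rw [hσ, ← Equiv.Perm.mul_apply, ← pow_succ']
        refine le_iSup_of_le ⟨((i : ℕ) + 1) % r, Nat.mod_lt _ hr.out.pos⟩ (le_of_eq ?_)
        show D _ = D _
        rw [pow_eq_pow_of_modEq (Nat.mod_modEq ((i : ℕ) + 1) r).symm hσr]
      exact fun w hw => hle ⟨w, hw, rfl⟩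
    have hfixle : finrank F ↥(P ⊓ fixSp T) ≤ a := by
      refine (Submodule.finrank_mono (?_ : _ ≤ (D j).map S)).trans ((Submodule.finrank_map_le _ _).trans (hfin j).le)
      rintro v ⟨hv, hv'⟩
      have hrv : S v = (r : F) • v := by
        have hk : ∀ k : ℕ, (T ^ k) v = v := fun k => by
          induction k with
          | zero => rfl
          | succ k ih => rw [pow_succ, Module.End.mul_apply, mem_fixSp.1 hv', ih]
        rw [hS, LinearMap.sum_apply, Finset.sum_congr rfl (fun k _ => hk k), Finset.sum_const,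
          Finset.card_range, Nat.cast_smul_eq_nsmul]
      have hmem : S v ∈ (D j).map S := by
        have h : P.map S ≤ (D j).map S := by
          rw [Submodule.map_iSup]
          refine iSup_le fun i => ?_
          show (D ((σ ^ (i : ℕ)) j)).map S ≤ _
          rw [← map_pow_eq hσ, ← Submodule.map_comp, ← Module.End.mul_eq_comp, hST]
        exact h ⟨v, hv, rfl⟩
      rw [hrv] at hmem
      exact (Submodule.smul_mem_iff _ hrF).1 hmem
    have h1 := (split_spec hrF hA hB hT hPi).1
    have h2 : finrank F ↥(P ⊓ movSp r T) ≤ finrank F (movSp r T) := Submodule.finrank_mono inf_le_right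
    have h3 : (r - 1) * a + a = r * a := by
      rw [← Nat.succ_mul, Nat.succ_eq_add_one, Nat.sub_add_cancel hr.out.one_le]
    omega

end moved

section model

variable [Fintype F]

omit [FiniteDimensional F V] in
/-- An isometry with `s` moving blocks of size `2 h` and a fixed space of dimension `2 k`. -/
theorem exists_model (hrF : (r : F) ≠ 0) {d k h s : ℕ} (hd : k + s * h = d)
    {y : Module.End F (Fin h ⊕ Fin h → F)} (hy : ∀ u w, Cfsg.sympForm h F (y u) (y w) = Cfsg.sympForm h F u w)
    (hyr : y ^ r = 1) (hfree : Fpf y ⊤) :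
    ∃ T : Module.End F (Fin d ⊕ Fin d → F),
      (∀ u w, Cfsg.sympForm d F (T u) (T w) = Cfsg.sympForm d F u w) ∧ T ^ r = 1 ∧
        finrank F (fixSp T) = 2 * k := by
  classical
  let e₀ : Fin k ⊕ Fin s × Fin h ≃ Fin d :=
    ((Equiv.refl _).sumCongr finProdFinEquiv).trans (finSumFinEquiv.trans (finCongr hd))
  let E : ((Fin k ⊕ Fin k → F) × (Fin s → Fin h ⊕ Fin h → F)) ≃ₗ[F] (Fin d ⊕ Fin d → F) :=
    { toFun := fun p => Sum.elim
        (fun n => Sum.elim (fun k => p.1 (.inl k)) (fun q => p.2 q.1 (.inl q.2)) (e₀.symm n))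
        (fun n => Sum.elim (fun k => p.1 (.inr k)) (fun q => p.2 q.1 (.inr q.2)) (e₀.symm n))
      map_add' := fun p p' => funext fun x => by
        rcases x with n | n <;> rcases hn : e₀.symm n with k | q <;> simp [hn]
      map_smul' := fun c p => funext fun x => by
        rcases x with n | n <;> rcases hn : e₀.symm n with k | q <;> simp [hn]
      invFun := fun v => (Sum.elim (fun k => v (.inl (e₀ (.inl k)))) (fun k => v (.inr (e₀ (.inl k)))),
        fun l => Sum.elim (fun t => v (.inl (e₀ (.inr (l, t))))) (fun t => v (.inr (e₀ (.inr (l, t))))))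
      left_inv := fun p => by
        refine Prod.ext (funext fun x => ?_) (funext fun l => funext fun x => ?_) <;> rcases x with k | k <;> simp
      right_inv := fun v => funext fun x => by
        rcases x with n | n <;> obtain ⟨z, rfl⟩ := e₀.surjective n <;> rcases z with k | ⟨l, t⟩ <;> simp }
  have hE : ∀ p p', Cfsg.sympForm d F (E p) (E p') =
      Cfsg.sympForm k F p.1 p'.1 + ∑ l, Cfsg.sympForm h F (p.2 l) (p'.2 l) := by
    intro p p'
    simp only [CfsgLib.Linear.Symp.sympForm_eq_sum]
    rw [← e₀.sum_comp, Fintype.sum_sum_type, Fintype.sum_prod_type]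
    simp [E]
  let S : Module.End F ((Fin k ⊕ Fin k → F) × (Fin s → Fin h ⊕ Fin h → F)) :=
    LinearMap.prodMap LinearMap.id (LinearMap.pi fun l => y.comp (LinearMap.proj l))
  let T : Module.End F (Fin d ⊕ Fin d → F) := E.toLinearMap.comp (S.comp E.symm.toLinearMap)
  have hTE : ∀ p, T (E p) = E (p.1, fun l => y (p.2 l)) := fun p => by simp [T, S]; rfl
  have hTk : ∀ (m : ℕ) p, (T ^ m) (E p) = E (p.1, fun l => (y ^ m) (p.2 l)) := fun m => by
    induction m with
    | zero => intro p; simp
    | succ m ih => intro p; rw [pow_succ, Module.End.mul_apply, hTE, ih]; simp [pow_succ, Module.End.mul_apply]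
  refine ⟨T, fun u w => ?_, LinearMap.ext fun v => ?_, ?_⟩
  · obtain ⟨p, rfl⟩ := E.surjective u
    obtain ⟨p', rfl⟩ := E.surjective w
    rw [hTE, hTE, hE, hE]
    simp [hy]
  · obtain ⟨p, rfl⟩ := E.surjective v
    rw [hTk]
    simp [hyr]
  · have h : fixSp T = LinearMap.range (E.toLinearMap.comp (LinearMap.inl F _ _)) := by
      ext v
      obtain ⟨p, rfl⟩ := E.surjective v
      rw [mem_fixSp, hTE, E.injective.eq_iff]
      constructor
      · intro hp
        refine ⟨p.1, congrArg E (Prod.ext rfl (funext fun l => ?_))⟩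
        exact (hfree _ trivial (congrFun (congrArg Prod.snd hp) l)).symm
      · rintro ⟨v, hv⟩
        obtain rfl := (E.injective hv : (v, 0) = p)
        exact Prod.ext rfl (funext fun l => map_zero y)
    rw [h, LinearMap.finrank_range_of_inj, CfsgLib.SympGeom.finrank_space]
    exact E.injective.comp fun a b hab => congrArg Prod.fst hab

end model

end CfsgLib.SympDecomp
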