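import Mathlib
import Cfsg.Agent.Lib.SympDecomp.Main
import Cfsg.Agent.Lib.LinFix.SympIndex

/-!
The number of orthogonal decompositions of the symplectic space.
-/

set_option autoImplicit false

namespace CfsgLib.SympDecomp

open Module Cfsg CfsgLib.Linear.Symp CfsgLib.SympGeom CfsgLib.PrimeFix

/-- An orthogonal decomposition of the symplectic space into nondegenerate subspaces. -/
def IsSympDecomp {F : Type*} [Field F] {d t : ℕ} (a : ℕ) (D : Fin t → Submodule F (Fin d ⊕ Fin d → F)) : Prop :=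
  Cfsg.Geo.IsMDecomposition a D ∧ (∀ j, ∀ u ∈ D j, u ≠ 0 → ∃ v ∈ D j, Cfsg.sympForm d F u v ≠ 0) ∧
    (∀ j j', j ≠ j' → ∀ u ∈ D j, ∀ v ∈ D j', Cfsg.sympForm d F u v = 0)

variable {F : Type*} [Field F] {d t a : ℕ}

theorem IsSympDecomp.nd {D : Fin t → Submodule F (Fin d ⊕ Fin d → F)} (h : IsSympDecomp a D) (j : Fin t) :
    Nd (sympBilin d F) (D j) := fun u hu h0 => by
  by_contra hu0
  obtain ⟨v, hv, hne⟩ := h.2.1 j u hu hu0
  exact hne (h0 v hv)

theorem isSympDecomp_of_orth (ht : 2 ≤ t) (ha : 0 < a) (hat : 2 * d = a * t)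
    {D : Fin t → Submodule F (Fin d ⊕ Fin d → F)} (hd : ∀ j, finrank F (D j) = a)
    (hn : ∀ j, Nd (sympBilin d F) (D j))
    (ho : ∀ j j', j ≠ j' → ∀ u ∈ D j, ∀ w ∈ D j', sympForm d F u w = 0) : IsSympDecomp a D := by
  have hind : iSupIndep D := indep_of_orth sympBilin_alt hn ho
  refine ⟨⟨ht, ha, hd, hind, ?_⟩, fun j u hu hu0 => ?_, ho⟩
  · have := Cfsg.Agent.S5958.sum_le_of_indep hind (C := iSup D) (l := a) fun i => by
      rw [inf_eq_left.2 (le_iSup D i)]; exact (hd i).ge
    rw [Fintype.card_fin] at this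
    refine Submodule.eq_top_of_finrank_eq (le_antisymm (Submodule.finrank_le _) ?_)
    rw [finrank_space, hat, mul_comm a]
    exact this
  · by_contra h
    push Not at h
    exact hu0 (hn j u hu h)

section count

variable [Fintype F]

theorem nd_top : Nd (sympBilin d F) ⊤ := fun _ _ h => eq_zero_of_forall_form fun v => h v trivial

theorem exists_isSympDecomp {r : ℕ} [Fact r.Prime] (hrF : (r : F) ≠ 0) (hr2 : r ≠ 2) (ht : 2 ≤ t) (ha : 0 < a)
    (hae : Even a) (hat : 2 * d = a * t) :
    ∃ D : Fin t → Submodule F (Fin d ⊕ Fin d → F), IsSympDecomp a D := by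
  have hfix : fixSp (1 : Module.End F (Fin d ⊕ Fin d → F)) = ⊤ := by simp [fixSp]
  obtain ⟨D, hD, ho⟩ := exists_parts (T := (1 : Module.End F (Fin d ⊕ Fin d → F))) (r := r) hrF hr2
    sympBilin_alt (fun _ _ => rfl) (one_pow r) hae t ⊤ (fun _ _ => trivial) nd_top
    (by rw [finrank_top, finrank_space, hat]) (by
      rw [hfix, top_inf_eq, finrank_top, finrank_space, hat, mul_comm a]
      exact Nat.mul_le_mul_left t (Nat.mod_le _ _))
  exact ⟨D, isSympDecomp_of_orth ht ha hat (fun j => (hD j).2.2.2) (fun j => (hD j).2.2.1) ho⟩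

omit [Fintype F] in
/-- Any two decompositions differ by an isometry. -/
theorem exists_transport {D D' : Fin t → Submodule F (Fin d ⊕ Fin d → F)} (h : IsSympDecomp a D)
    (h' : IsSympDecomp a D') :
    ∃ x : ↥(Matrix.symplecticGroup (Fin d) F), ∀ j, (D j).map (Matrix.toLin' x.1) = D' j := by
  classical
  have hf : ∀ j, ∃ f : D j ≃ₗ[F] D' j,
      ∀ u v : D j, sympForm d F (f u : Fin d ⊕ Fin d → F) (f v) = sympForm d F u v := by
    intro j
    obtain ⟨m, e, he⟩ := CfsgLib.LinFix.exists_sympEquiv ((sympBilin d F).domRestrict₁₂ (D j) (D j))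
      (fun v => sympBilin_alt _) fun v hv => Subtype.ext (h.nd j _ v.2 fun w hw => hv ⟨w, hw⟩)
    obtain ⟨m', e', he'⟩ := CfsgLib.LinFix.exists_sympEquiv ((sympBilin d F).domRestrict₁₂ (D' j) (D' j))
      (fun v => sympBilin_alt _) fun v hv => Subtype.ext (h'.nd j _ v.2 fun w hw => hv ⟨w, hw⟩)
    obtain rfl : m = m' := by
      have h1 := e.finrank_eq
      have h2 := e'.finrank_eq
      rw [h.1.finrank_eq, finrank_space] at h1
      rw [h'.1.finrank_eq, finrank_space] at h2
      omega
    refine ⟨e.trans e'.symm, fun u v => ?_⟩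
    have h1 := he' (e'.symm (e u)) (e'.symm (e v))
    rw [LinearEquiv.apply_symm_apply, LinearEquiv.apply_symm_apply, ← he] at h1
    exact h1
  choose f hf using hf
  let L : ∀ E : Fin t → Submodule F (Fin d ⊕ Fin d → F), (∀ j, E j) →ₗ[F] (Fin d ⊕ Fin d → F) := fun E =>
    ∑ j, (E j).subtype.comp (LinearMap.proj j)
  have hL : ∀ E (w : ∀ j, E j), L E w = ∑ j, (w j : Fin d ⊕ Fin d → F) := fun E w => by simp [L]
  have hbij : Function.Bijective (L D) := by
    constructor
    · refine (injective_iff_map_eq_zero _).2 fun w hw => funext fun j => Subtype.ext ?_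
      rw [hL] at hw
      exact Cfsg.Agent.S5958.eq_zero_of_sum h.1.indep (w := fun j => (w j : Fin d ⊕ Fin d → F))
        (fun j => (w j).2) hw j
    · rw [← LinearMap.range_eq_top, eq_top_iff, ← h.1.iSup_eq_top, iSup_le_iff]
      intro j v hv
      refine ⟨Pi.single j ⟨v, hv⟩, ?_⟩
      rw [hL, Finset.sum_eq_single j (fun k _ hk => by simp [hk]) (by simp)]
      simp
  let e := LinearEquiv.ofBijective (L D) hbij
  let T : Module.End F (Fin d ⊕ Fin d → F) :=
    (L D').comp ((LinearEquiv.piCongrRight f).toLinearMap.comp e.symm.toLinearMap)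
  have hTe : ∀ w, T (L D w) = ∑ j, (f j (w j) : Fin d ⊕ Fin d → F) := fun w => by
    have : e.symm (L D w) = w := e.symm_apply_apply w
    simp only [T, LinearMap.comp_apply, LinearEquiv.coe_coe, this, hL D', LinearEquiv.piCongrRight_apply]
  have hform : ∀ (E : Fin t → Submodule F (Fin d ⊕ Fin d → F)),
      (∀ j j', j ≠ j' → ∀ u ∈ E j, ∀ v ∈ E j', sympForm d F u v = 0) → ∀ u v : ∀ j, E j,
      sympBilin d F (∑ j, (u j : Fin d ⊕ Fin d → F)) (∑ j, (v j : Fin d ⊕ Fin d → F)) =
        ∑ j, sympForm d F (u j) (v j) := by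
    intro E hE u v
    rw [map_sum (sympBilin d F), LinearMap.sum_apply]
    refine Finset.sum_congr rfl fun j _ => ?_
    rw [map_sum]
    exact Finset.sum_eq_single j (fun k _ hk => hE j k (Ne.symm hk) _ (u j).2 _ (v k).2)
      (fun hj => absurd (Finset.mem_univ j) hj)
  have hT : ∀ u w, sympForm d F (T u) (T w) = sympForm d F u w := fun u w => by
    obtain ⟨u, rfl⟩ := hbij.2 u
    obtain ⟨w, rfl⟩ := hbij.2 w
    rw [hTe, hTe, hL, hL]
    exact ((hform D' h'.2.2 (fun j => f j (u j)) fun j => f j (w j)).trans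
      (Finset.sum_congr rfl fun j _ => hf j _ _)).trans (hform D h.2.2 u w).symm
  refine ⟨⟨LinearMap.toMatrix' T, mem_of_form_mulVec fun u v => ?_⟩, fun j => ?_⟩
  · rw [← Matrix.toLin'_apply, ← Matrix.toLin'_apply, Matrix.toLin'_toMatrix', hT]
  have hsingle : ∀ v (hv : v ∈ D j), T v = f j ⟨v, hv⟩ := fun v hv => by
    have h1 : L D (Pi.single j ⟨v, hv⟩) = v := by
      rw [hL, Finset.sum_eq_single j (fun k _ hk => by simp [hk]) (by simp)]; simp
    conv_lhs => rw [← h1]
    rw [hTe, Finset.sum_eq_single j (fun k _ hk => by simp [hk]) (by simp)]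
    simp
  show (D j).map (Matrix.toLin' (LinearMap.toMatrix' T)) = D' j
  rw [Matrix.toLin'_toMatrix']
  refine le_antisymm ?_ fun w hw => ?_
  · rintro _ ⟨v, hv, rfl⟩
    rw [hsingle v hv]
    exact (f j _).2
  · refine ⟨((f j).symm ⟨w, hw⟩ : D j), ((f j).symm ⟨w, hw⟩).2, ?_⟩
    rw [hsingle _ ((f j).symm ⟨w, hw⟩).2]
    simp

/-- The number of decompositions divides the group order, and is a multiple of `t!`. -/
theorem card_decomp_dvd {r : ℕ} [Fact r.Prime] (hrF : (r : F) ≠ 0) (hr2 : r ≠ 2) (ht : 2 ≤ t) (ha : 0 < a)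
    (hae : Even a) (hat : 2 * d = a * t) :
    t.factorial ∣ Nat.card {D : Fin t → Submodule F (Fin d ⊕ Fin d → F) // IsSympDecomp a D} ∧
      Nat.card {D : Fin t → Submodule F (Fin d ⊕ Fin d → F) // IsSympDecomp a D} ∣
        Nat.card ↥(Matrix.symplecticGroup (Fin d) F) := by
  classical
  haveI : Finite (Submodule F (Fin d ⊕ Fin d → F)) := Finite.of_injective _ SetLike.coe_injective
  let X := {D : Fin t → Submodule F (Fin d ⊕ Fin d → F) // IsSympDecomp a D}
  constructor
  · letI : MulAction (Equiv.Perm (Fin t)) X :=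
      { smul := fun σ D => ⟨D.1 ∘ σ.symm, isSympDecomp_of_orth ht ha hat (fun j => D.2.1.finrank_eq _)
          (fun j => D.2.nd _) fun j j' hne => D.2.2.2 _ _ fun e => hne (σ.symm.injective e)⟩
        one_smul := fun D => Subtype.ext rfl
        mul_smul := fun σ τ D => Subtype.ext (funext fun i => rfl) }
    have hfree : ∀ D : X, MulAction.stabilizer (Equiv.Perm (Fin t)) D = ⊥ := fun D => by
      rw [eq_bot_iff]
      intro σ hσ
      rw [MulAction.mem_stabilizer_iff] at hσ
      have hinj : Function.Injective D.1 := D.2.1.indep.injective fun i h0 => by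
        have := D.2.1.finrank_eq i
        rw [h0, finrank_bot] at this
        omega
      rw [Subgroup.mem_bot]
      refine Equiv.ext fun i => hinj ?_
      have := congrFun (congrArg Subtype.val hσ) (σ i)
      change D.1 (σ.symm (σ i)) = D.1 (σ i) at this
      rw [Equiv.symm_apply_apply] at this
      exact this.symm
    haveI : Fintype (MulAction.orbitRel.Quotient (Equiv.Perm (Fin t)) X) := Fintype.ofFinite _
    have key := Nat.card_congr (MulAction.selfEquivSigmaOrbits (Equiv.Perm (Fin t)) X)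
    rw [Nat.card_sigma] at key
    show t.factorial ∣ Nat.card X
    rw [key]
    refine Finset.dvd_sum fun ω _ => ?_
    refine dvd_of_eq ?_
    rw [Nat.card_coe_set_eq, ← MulAction.index_stabilizer, hfree, Subgroup.index_bot, Nat.card_perm,
      Nat.card_fin]
  · obtain ⟨D₀, hD₀⟩ := exists_isSympDecomp (r := r) hrF hr2 ht ha hae hat
    letI : MulAction ↥(Matrix.symplecticGroup (Fin d) F) X :=
      { smul := fun x D => ⟨fun j => (D.1 j).map (Matrix.toLin' x.1), by
          have hinj : Function.Injective (Matrix.toLin' x.1) := (injective_iff_map_eq_zero _).2 fun u hu =>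
            eq_zero_of_forall_form fun v => by
              rw [← form_mulVec x.2 u v, ← Matrix.toLin'_apply, hu, form_zero_left]
          refine isSympDecomp_of_orth ht ha hat (fun j => ?_) (fun j => ?_) fun j j' hne => ?_
          · rw [← (Submodule.equivMapOfInjective _ hinj _).finrank_eq, D.2.1.finrank_eq]
          · rintro _ ⟨u, hu, rfl⟩ h0
            rw [D.2.nd j u hu fun w hw => ?_, map_zero]
            have := h0 _ ⟨w, hw, rfl⟩
            rwa [sympBilin_apply, Matrix.toLin'_apply, Matrix.toLin'_apply, form_mulVec x.2] at this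
          · rintro _ ⟨u, hu, rfl⟩ _ ⟨w, hw, rfl⟩
            rw [Matrix.toLin'_apply, Matrix.toLin'_apply, form_mulVec x.2]
            exact D.2.2.2 j j' hne u hu w hw⟩
        one_smul := fun D => Subtype.ext (funext fun j => by
          show (D.1 j).map (Matrix.toLin' (1 : Matrix (Fin d ⊕ Fin d) (Fin d ⊕ Fin d) F)) = D.1 j
          rw [Matrix.toLin'_one, Submodule.map_id])
        mul_smul := fun x y D => Subtype.ext (funext fun j => by
          show (D.1 j).map (Matrix.toLin' (x.1 * y.1)) = ((D.1 j).map (Matrix.toLin' y.1)).map (Matrix.toLin' x.1)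
          rw [Matrix.toLin'_mul, Submodule.map_comp]) }
    haveI : MulAction.IsPretransitive ↥(Matrix.symplecticGroup (Fin d) F) X := ⟨fun D D' => by
      obtain ⟨x, hx⟩ := exists_transport D.2 D'.2
      exact ⟨x, Subtype.ext (funext hx)⟩⟩
    show Nat.card X ∣ _
    rw [← MulAction.index_stabilizer_of_transitive (G := ↥(Matrix.symplecticGroup (Fin d) F)) (⟨D₀, hD₀⟩ : X)]
    exact Subgroup.index_dvd_card _

/-- The basic dimension is at most the dimension of the space. -/
theorem unitDim_le {p : ℕ} [Fact p.Prime] [CharP F p] {r : ℕ} [hr : Fact r.Prime] (hr2 : r ≠ 2) (hrp : r ≠ p)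
    (ht : 2 ≤ t) (ha : 2 ≤ a) (hae : Even a) (hat : 2 * d = a * t)
    (h : r ∣ Nat.card {D : Fin t → Submodule F (Fin d ⊕ Fin d → F) // IsSympDecomp a D} / t.factorial) :
    unitDim F r ≤ 2 * d := by
  have hrF : (r : F) ≠ 0 := CfsgLib.LinFix.natCast_ne_zero_of_ne hrp
  set i := orderOf (Fintype.card F : ZMod r) with hi
  by_cases hrt : r ≤ t
  · have h1 : i ≤ r - 1 := Nat.le_of_dvd (by have := hr.out.two_le; omega) (orderOf_dvd_of_pow_eq_one
      (ZMod.pow_card_sub_one_eq_one (cast_card_ne_zero hrF)))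
    have h2 : 2 * t ≤ a * t := Nat.mul_le_mul_right t ha
    rw [unitDim, ← hi]
    split_ifs <;> omega
  · obtain ⟨hdiv, hdvd⟩ := card_decomp_dvd (d := d) (a := a) hrF hr2 ht (by omega) hae hat
    have h1 := (h.trans (Nat.div_dvd_of_dvd hdiv)).trans hdvd
    rw [card_symplectic] at h1
    rcases hr.out.dvd_mul.1 h1 with h' | h'
    · exact absurd ((CharP.cast_eq_zero_iff (ZMod r) r _).2 (hr.out.dvd_of_dvd_pow h')) (cast_card_ne_zero hrF)
    · obtain ⟨j, hj, hj'⟩ := hr.out.prime.exists_mem_finset_dvd h'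
      rw [Finset.mem_range] at hj
      have h2 := (CfsgLib.LinFix.dvd_pow_sub_one_iff Fintype.card_pos _).1 hj'
      rw [unitDim, ← hi]
      rw [← hi] at h2
      split_ifs with he
      · exact (Nat.le_of_dvd (by omega) h2).trans (by omega)
      · have := Nat.le_of_dvd (by omega)
          ((Nat.Coprime.dvd_mul_left (Nat.coprime_two_right.2 (Nat.not_even_iff_odd.1 he))).1 h2)
        omega

end count

end CfsgLib.SympDecomp
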